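import Groth.Prelude.Def_CohB1
import Mathlib

/-!
# `P^n_k` is proper; field-valued points with prescribed affine coordinates
-/

set_option autoImplicit false
set_option backward.isDefEq.respectTransparency false
set_option backward.defeqAttrib.useBackward true

universe u

open CategoryTheory AlgebraicGeometry MvPolynomial HomogeneousLocalization

namespace Groth.Agent.CompleteCurve

variable (n : ℕ) (R : Type u) [CommRing R]

lemma bijective_algebraMap_zero :
    Function.Bijective (algebraMap R (CohB1.polyGrading n R 0)) := by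
  refine ⟨fun a b h => C_injective _ _ (congrArg Subtype.val h), fun x => ?_⟩
  obtain ⟨r, hr⟩ : (x : MvPolynomial (Fin (n + 1)) R) ∈ (1 : Submodule R (MvPolynomial (Fin (n + 1)) R)) := by
    rw [← MvPolynomial.homogeneousSubmodule_zero]; exact x.2
  exact ⟨r, Subtype.ext (by simpa [Algebra.smul_def] using hr)⟩

instance : Algebra.FiniteType (CohB1.polyGrading n R 0) (MvPolynomial (Fin (n + 1)) R) :=
  haveI : IsScalarTower R (CohB1.polyGrading n R 0) (MvPolynomial (Fin (n + 1)) R) :=
    IsScalarTower.of_algebraMap_eq (R := R) (S := CohB1.polyGrading n R 0) fun _ => rfl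
  Algebra.FiniteType.of_restrictScalars_finiteType R _ _

instance isProper_toSpec : IsProper (CohB1.ProjSpace.toSpec n R) := by
  haveI : IsIso (CommRingCat.ofHom (algebraMap R (CohB1.polyGrading n R 0))) :=
    (ConcreteCategory.isIso_iff_bijective _).mpr (bijective_algebraMap_zero n R)
  exact MorphismProperty.comp_mem @IsProper _ _ inferInstance inferInstance

variable {n R} {K : Type u} [Field K] [Algebra R K]

/-- the substitution `X₀ ↦ 1, X_{i+1} ↦ g i` on the first chart -/
noncomputable def chartHom (g : Fin n → K) : Away (CohB1.polyGrading n R) (X 0) →+* K :=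
  (IsLocalization.Away.lift (S := Localization.Away (X 0 : MvPolynomial (Fin (n + 1)) R)) (X 0)
    (g := (aeval (Fin.cons 1 g) : MvPolynomial (Fin (n + 1)) R →ₐ[R] K).toRingHom) (by simp)).comp
    (algebraMap (Away (CohB1.polyGrading n R) (X 0)) (Localization.Away (X 0 : MvPolynomial (Fin (n + 1)) R)))

lemma chartHom_algebraMap (g : Fin n → K) (r : R) :
    chartHom g (fromZeroRingHom (CohB1.polyGrading n R) (Submonoid.powers (X 0 : MvPolynomial (Fin (n + 1)) R)) (algebraMap R (CohB1.polyGrading n R 0) r)) =
      algebraMap R K r := by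
  have : val (fromZeroRingHom (CohB1.polyGrading n R) (Submonoid.powers (X 0 : MvPolynomial (Fin (n + 1)) R))
      (algebraMap R (CohB1.polyGrading n R 0) r)) =
        algebraMap (MvPolynomial (Fin (n + 1)) R) (Localization (Submonoid.powers (X 0 : MvPolynomial (Fin (n + 1)) R))) (C r) := by
    exact (val_mk _).trans (Localization.mk_one_eq_algebraMap _)
  rw [chartHom, RingHom.comp_apply, HomogeneousLocalization.algebraMap_apply, this,
    IsLocalization.Away.lift_eq]
  simp

lemma mem_range_chartHom (g : Fin n → K) (i : Fin n) : g i ∈ (chartHom (R := R) g).range := by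
  have h0 : (X 0 : MvPolynomial (Fin (n + 1)) R) ∈ CohB1.polyGrading n R 1 := isHomogeneous_X R 0
  let a := Away.mk (CohB1.polyGrading n R) h0 1 (X i.succ)
    (by rw [one_smul]; exact isHomogeneous_X R i.succ)
  refine ⟨a, ?_⟩
  have h := congrArg (IsLocalization.Away.lift (S := Localization.Away (X 0 : MvPolynomial (Fin (n + 1)) R))
    (X 0) (g := (aeval (Fin.cons 1 g) : MvPolynomial (Fin (n + 1)) R →ₐ[R] K).toRingHom) (by simp))
    (show val a * algebraMap _ _ (X 0 : MvPolynomial (Fin (n + 1)) R) =
      algebraMap _ (Localization.Away (X 0 : MvPolynomial (Fin (n + 1)) R)) (X i.succ) by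
      rw [Away.val_mk]
      rw [← Localization.mk_one_eq_algebraMap, ← Localization.mk_one_eq_algebraMap, Localization.mk_mul,
        Localization.mk_eq_mk_iff, Localization.r_iff_exists]
      exact ⟨1, by simp [mul_comm]⟩)
  rw [map_mul, IsLocalization.Away.lift_eq, IsLocalization.Away.lift_eq] at h
  simpa [chartHom] using h

/-- the `K`-point of `P^n` with affine coordinates `g` -/
noncomputable def chartPoint (g : Fin n → K) : Spec (CommRingCat.of K) ⟶ CohB1.ProjSpace n R :=
  Spec.map (CommRingCat.ofHom (chartHom g)) ≫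
    Proj.awayι (CohB1.polyGrading n R) (X 0) (isHomogeneous_X R 0) one_pos

lemma chartPoint_toSpec (g : Fin n → K) :
    chartPoint g ≫ CohB1.ProjSpace.toSpec n R = Spec.map (CommRingCat.ofHom (algebraMap R K)) := by
  rw [chartPoint, CohB1.ProjSpace.toSpec, Category.assoc]
  erw [Proj.awayι_toSpecZero_assoc]
  rw [← Spec.map_comp, ← Spec.map_comp]
  congr 1
  ext r
  exact chartHom_algebraMap g r

end Groth.Agent.CompleteCurve
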