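import Groth.Prelude.Def_Curv2
import Groth.Agent.CompleteCurve.ProjSpace
import Groth.Agent.DVRCrit.Local
import Groth.Agent.FinIntClosure.Normalization

/-!
# Normal complete curve with given function field
-/

set_option autoImplicit false
set_option backward.isDefEq.respectTransparency false
set_option backward.defeqAttrib.useBackward true

universe u

open CategoryTheory AlgebraicGeometry TopologicalSpace Opposite

namespace Groth.Agent.CompleteCurve

variable {K : Type u} [Field K]

/-- the range of the comparison map to `K` of a `K`-valued point -/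
noncomputable def ran {Y : Scheme.{u}} (h : Spec (CommRingCat.of K) ⟶ Y) : Subring K :=
  (Scheme.stalkClosedPointTo h).hom.range

lemma ran_comp_le {Y Z : Scheme.{u}} (h : Spec (CommRingCat.of K) ⟶ Y) (f : Y ⟶ Z) :
    ran (h ≫ f) ≤ ran h := by
  rintro a ⟨b, rfl⟩
  refine ⟨f.stalkMap _ b, ?_⟩
  have := congr($(Scheme.stalkClosedPointTo_comp h f) b)
  exact this.symm

lemma ran_comp_eq {Y Z : Scheme.{u}} (h : Spec (CommRingCat.of K) ⟶ Y) (f : Y ⟶ Z) [IsOpenImmersion f] :
    ran (h ≫ f) = ran h := by
  refine (ran_comp_le h f).antisymm ?_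
  rintro a ⟨b, rfl⟩
  obtain ⟨c, rfl⟩ := ((ConcreteCategory.isIso_iff_bijective
    (f.stalkMap (h (IsLocalRing.closedPoint K)))).mp inferInstance).2 b
  refine ⟨c, ?_⟩
  exact congr($(Scheme.stalkClosedPointTo_comp h f) c)

lemma range_le_ran {B : Type u} [CommRing B] (ψ : B →+* K) :
    ψ.range ≤ ran (Spec.map (CommRingCat.ofHom ψ)) := by
  rintro _ ⟨b, rfl⟩
  refine ⟨(Spec (CommRingCat.of B)).presheaf.germ ⊤ _ trivial ((Scheme.ΓSpecIso (CommRingCat.of B)).inv b), ?_⟩
  have h := congr($(Scheme.germ_stalkClosedPointTo_Spec (CommRingCat.ofHom ψ))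
    ((Scheme.ΓSpecIso (CommRingCat.of B)).inv b))
  refine Eq.trans h ?_
  change ψ ((Scheme.ΓSpecIso (CommRingCat.of B)).hom ((Scheme.ΓSpecIso (CommRingCat.of B)).inv b)) = ψ b
  rw [Iso.inv_hom_id_apply]

/-- a field valued point in generic position comes from a map of the function field -/
lemma exists_functionField_map {Y : Scheme.{u}} [IsIntegral Y] (h : Spec (CommRingCat.of K) ⟶ Y)
    (hy : h (IsLocalRing.closedPoint K) = genericPoint Y) :
    ∃ φ : Y.functionField →+* K, φ.range = ran h ∧
      h = Spec.map (CommRingCat.ofHom φ) ≫ Y.fromSpecStalk (genericPoint Y) ∧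
      ∀ (U : Y.Opens) (hU : genericPoint Y ∈ U) (a : Γ(Y, U)),
        φ (Y.presheaf.germ U _ hU a) =
          Scheme.stalkClosedPointTo h (Y.presheaf.germ U _ (hy ▸ hU) a) := by
  suffices key : ∀ y, h (IsLocalRing.closedPoint K) = y →
      ∃ φ : Y.presheaf.stalk y ⟶ CommRingCat.of K, φ.hom.range = ran h ∧
        h = Spec.map φ ≫ Y.fromSpecStalk y ∧
        ∀ (U : Y.Opens) (hU : y ∈ U) (h' : h (IsLocalRing.closedPoint K) ∈ U) (a : Γ(Y, U)),
          φ (Y.presheaf.germ U _ hU a) = Scheme.stalkClosedPointTo h (Y.presheaf.germ U _ h' a) by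
    obtain ⟨φ, h1, h2, h3⟩ := key _ hy
    exact ⟨φ.hom, h1, h2, fun U hU a => h3 U hU _ a⟩
  rintro _ rfl
  exact ⟨Scheme.stalkClosedPointTo h, rfl,
    (Scheme.Spec_stalkClosedPointTo_fromSpecStalk h).symm, fun _ _ _ _ => rfl⟩

/-- the value at the closed point of a global function pulled back from `Spec k` -/
lemma stalkClosedPointTo_toGlobal {k : Type u} [CommRing k] [Algebra k K] {Y : Scheme.{u}}
    (h : Spec (CommRingCat.of K) ⟶ Y) (r : Y ⟶ Spec (CommRingCat.of k))
    (hr : h ≫ r = Spec.map (CommRingCat.ofHom (algebraMap k K))) (c : k) (U : Y.Opens)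
    (hU : h (IsLocalRing.closedPoint K) ∈ U) :
    Scheme.stalkClosedPointTo h (Y.presheaf.germ U _ hU
      (Y.presheaf.map (homOfLE le_top).op (r.appTop ((Scheme.ΓSpecIso (CommRingCat.of k)).inv c)))) =
      algebraMap k K c := by
  rw [TopCat.Presheaf.germ_res_apply]
  have h1 := congr($(Scheme.germ_stalkClosedPointTo h ⊤ trivial)
    (r.appTop ((Scheme.ΓSpecIso (CommRingCat.of k)).inv c)))
  refine h1.trans ?_
  have h2 : h.app ⊤ (r.appTop ((Scheme.ΓSpecIso (CommRingCat.of k)).inv c)) =
      (Scheme.ΓSpecIso (CommRingCat.of K)).inv (algebraMap k K c) := by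
    have h3 : r.appTop ≫ h.appTop = (Spec.map (CommRingCat.ofHom (algebraMap k K))).appTop := by
      rw [← Scheme.Hom.comp_appTop, hr]
    refine (congr($h3 ((Scheme.ΓSpecIso (CommRingCat.of k)).inv c))).trans ?_
    exact congr($((Scheme.ΓSpecIso_inv_naturality (CommRingCat.ofHom (algebraMap k K))).symm) c)
  rw [ConcreteCategory.comp_apply]
  erw [h2]
  simp

/-- a domain of finite type over a field of transcendence degree one has dimension one -/
lemma isMaximal_of_trdeg_one (k A : Type u) [Field k] [CommRing A] [IsDomain A] [Algebra k A]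
    [Algebra.FiniteType k A] (h : Algebra.trdeg k A = 1) :
    (∀ P : Ideal A, P.IsPrime → P ≠ ⊥ → P.IsMaximal) ∧ ¬ IsField A := by
  obtain ⟨s, f, hf, hfin⟩ := exists_finite_inj_algHom_of_fg k A
  let P := MvPolynomial (Fin s) k
  letI : Algebra P A := f.toRingHom.toAlgebra
  haveI : IsScalarTower k P A := IsScalarTower.of_algebraMap_eq fun c => (f.commutes c).symm
  haveI : Module.Finite P A := hfin
  haveI : FaithfulSMul P A := (faithfulSMul_iff_algebraMap_injective P A).mpr hf
  haveI : FaithfulSMul k P := (faithfulSMul_iff_algebraMap_injective k P).mpr (MvPolynomial.C_injective _ _)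
  have hs : s = 1 := by
    have h0 : Algebra.trdeg P A = 0 := trdeg_eq_zero_iff.mpr inferInstance
    have h1 := trdeg_add_eq k P (A := A)
    rw [h0, add_zero, h] at h1
    simpa [P] using h1
  subst hs
  refine ⟨fun Q hQ hQ0 => ?_, fun hA => ?_⟩
  · let e : P ≃+* Polynomial k := (MvPolynomial.uniqueAlgEquiv k (Fin 1)).toRingEquiv
    haveI : IsPrincipalIdealRing P := IsPrincipalIdealRing.of_surjective e.symm.toRingHom e.symm.surjective
    haveI := hQ.under P
    have : (Q.under P).IsMaximal := Ideal.IsPrime.isMaximal inferInstance (Ideal.IsIntegral.comap_ne_bot P hQ0)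
    exact Ideal.isMaximal_of_isIntegral_of_isMaximal_comap Q this
  · have hP : IsField P := (Algebra.IsIntegral.isField_iff_isField (FaithfulSMul.algebraMap_injective P A)).mpr hA
    let e : P ≃+* Polynomial k := (MvPolynomial.uniqueAlgEquiv k (Fin 1)).toRingEquiv
    exact Polynomial.not_isField k (e.symm.toMulEquiv.isField hP)

attribute [local instance] Curv2.stalkAlgebra in
/-- Every function field in one variable is the function field of a normal, complete, integral curve. -/
theorem exists_normal_complete_curve (k : Type u) [Field k] (K : Type u) [Field K] [Algebra k K]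
    (hfg : (⊤ : IntermediateField k K).FG) (htr : Algebra.trdeg k K = 1) :
    ∃ (X : Scheme.{u}) (_ : X.Over (Spec (CommRingCat.of k))) (_ : IsIntegral X),
      IsProper (X ↘ (Spec (CommRingCat.of k))) ∧ Pi1.IsNormalScheme X ∧
      (∀ x : X, IsClosed ({x} : Set X) → ringKrullDim (X.presheaf.stalk x) = 1) ∧
      ∃ e : X.presheaf.stalk (genericPoint X) ≃+* K,
        ∀ c : k, e (algebraMap k (X.presheaf.stalk (genericPoint X)) c) = algebraMap k K c := by
  classical
  obtain ⟨T, hT⟩ := hfg
  let n := T.card
  let g : Fin n → K := fun i => (T.equivFin.symm i : K)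
  let pt := chartPoint (R := k) g
  let x := pt (IsLocalRing.closedPoint K)
  let I := Scheme.IdealSheafData.vanishingIdeal (⟨closure {x}, isClosed_closure⟩ : Closeds (CohB1.ProjSpace n k))
  have hrange : Set.range I.subschemeι = closure {x} := by
    rw [Scheme.IdealSheafData.range_subschemeι, Scheme.IdealSheafData.coe_support_vanishingIdeal]
    rfl
  haveI : IsReduced I.subscheme := DVRCrit.isReduced_vanishingIdeal _
  obtain ⟨η, hη⟩ : x ∈ Set.range I.subschemeι := hrange ▸ subset_closure rfl
  have huniv : closure ({η} : Set I.subscheme) = Set.univ := by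
    rw [I.subschemeι.isClosedEmbedding.isInducing.closure_eq_preimage_closure_image, Set.image_singleton, hη,
      ← hrange, Set.preimage_range]
  haveI : IrreducibleSpace I.subscheme :=
    (irreducibleSpace_def _).mpr (by rw [Set.top_eq_univ, ← huniv]; exact isIrreducible_singleton.closure)
  haveI : IsIntegral I.subscheme := isIntegral_of_irreducibleSpace_of_isReduced _
  have hgen : genericPoint I.subscheme = η :=
    (genericPoint_spec I.subscheme).eq (show IsGenericPoint η Set.univ from huniv)
  obtain ⟨g₀, hg₀⟩ := DVRCrit.exists_factor_closed I.subschemeι pt (by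
    rintro _ ⟨p, rfl⟩
    haveI : Subsingleton (PrimeSpectrum K) := inferInstance
    rw [hrange, Subsingleton.elim (α := PrimeSpectrum K) p (IsLocalRing.closedPoint K)]
    exact subset_closure rfl)
  have hg₀η : g₀ (IsLocalRing.closedPoint K) = genericPoint I.subscheme := by
    rw [hgen]
    refine I.subschemeι.isClosedEmbedding.injective ?_
    rw [hη, ← Scheme.Hom.comp_apply, hg₀]
  obtain ⟨φ, hφr, hφg, hφU⟩ := exists_functionField_map g₀ hg₀η
  let q := I.subschemeι ≫ CohB1.ProjSpace.toSpec n k
  have hq : g₀ ≫ q = Spec.map (CommRingCat.ofHom (algebraMap k K)) := by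
    rw [← Category.assoc, hg₀, chartPoint_toSpec]
  -- `φ` is surjective
  have hsurj : Function.Surjective φ := by
    have hsub : Set.range (chartHom (R := k) g) ⊆ φ.range := by
      rw [hφr]
      intro a ha
      have h1 := range_le_ran (chartHom (R := k) g) ha
      rw [← ran_comp_eq _ (Proj.awayι (CohB1.polyGrading n k) (MvPolynomial.X 0)
        (MvPolynomial.isHomogeneous_X k 0) one_pos)] at h1
      change a ∈ ran pt at h1
      rw [← hg₀] at h1
      exact ran_comp_le _ _ h1
    let F : IntermediateField k K :=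
      { φ.fieldRange with
        algebraMap_mem' := fun c => by
          have : algebraMap k K c ∈ Set.range (chartHom (R := k) g) := ⟨_, chartHom_algebraMap g c⟩
          exact hsub this }
    have hF : (T : Set K) ⊆ F := fun a ha => by
      have : a = g (T.equivFin ⟨a, ha⟩) := by simp [g]
      exact hsub (this ▸ mem_range_chartHom g _)
    intro a
    exact (hT ▸ IntermediateField.adjoin_le_iff.mpr hF : ⊤ ≤ F) (show a ∈ (⊤ : IntermediateField k K) from trivial)
  have hφfin : φ.Finite := RingHom.Finite.of_surjective φ hsurj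
  -- dimension of the closed subscheme
  have hX : ∀ y : I.subscheme, IsClosed ({y} : Set I.subscheme) →
      ringKrullDim (I.subscheme.presheaf.stalk y) = 1 := by
    intro y hy
    obtain ⟨_, ⟨U, hU, rfl⟩, hyU, -⟩ :=
      I.subscheme.isBasis_affineOpens.exists_subset_of_mem_open (Set.mem_univ y) isOpen_univ
    haveI : Nonempty U := ⟨⟨y, hyU⟩⟩
    let A := Γ(I.subscheme, U)
    have hηU : genericPoint I.subscheme ∈ U :=
      (genericPoint_spec _).mem_open_set_iff U.isOpen |>.mpr (by simpa using ‹Nonempty U›)
    letI : Algebra A K := (φ.comp (I.subscheme.germToFunctionField U).hom).toAlgebra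
    let ε : I.subscheme.functionField ≃+* K := RingEquiv.ofBijective φ ⟨φ.injective, hsurj⟩
    haveI := functionField_isFractionRing_of_isAffineOpen I.subscheme U hU
    haveI : IsFractionRing A K :=
      IsLocalization.isLocalization_of_algEquiv (nonZeroDivisors A)
        (AlgEquiv.ofRingEquiv (f := ε) (R := A) fun _ => rfl)
    letI : Algebra k A :=
      ((I.subscheme.presheaf.map (homOfLE (le_top (a := U))).op).hom.comp (Coh.toGlobal q)).toAlgebra
    haveI : IsScalarTower k A K := IsScalarTower.of_algebraMap_eq fun c => by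
      change algebraMap k K c = φ (I.subscheme.presheaf.germ U _ hηU _)
      rw [hφU U hηU]
      exact (stalkClosedPointTo_toGlobal g₀ q hq c U _).symm
    haveI : Algebra.FiniteType k A := by
      have h := q.finiteType_appLE (isAffineOpen_top _) hU (by simp)
      have h2 : (Scheme.ΓSpecIso (CommRingCat.of k)).inv.hom.FiniteType :=
        RingHom.FiniteType.of_surjective _
          (Scheme.ΓSpecIso (CommRingCat.of k)).symm.commRingCatIsoToRingEquiv.surjective
      have h3 := RingHom.FiniteType.comp h h2
      exact h3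
    haveI : FaithfulSMul A K := (faithfulSMul_iff_algebraMap_injective A K).mpr (IsFractionRing.injective A K)
    haveI : FaithfulSMul k A := (faithfulSMul_iff_algebraMap_injective k A).mpr (algebraMap k A).injective
    have htrA : Algebra.trdeg k A = 1 := by
      have h1 := trdeg_add_eq k A (A := K)
      haveI : Algebra.IsAlgebraic A K := IsLocalization.isAlgebraic K (nonZeroDivisors A)
      rw [(trdeg_eq_zero_iff (R := A) (A := K)).mpr inferInstance, add_zero, htr] at h1
      exact h1
    obtain ⟨hmax, hnf⟩ := isMaximal_of_trdeg_one k A htrA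
    letI := I.subscheme.presheaf.algebra_section_stalk (⟨y, hyU⟩ : U)
    haveI := hU.isLocalization_stalk ⟨y, hyU⟩
    let Q := hU.primeIdealOf ⟨y, hyU⟩
    have hQm : Q.asIdeal.IsMaximal := by
      refine (PrimeSpectrum.isClosed_singleton_iff_isMaximal Q).mp ?_
      have h := hy.preimage hU.fromSpec.continuous
      rw [show ({Q} : Set (PrimeSpectrum A)) = hU.fromSpec ⁻¹' {y} from ?_]
      · exact h
      refine Set.ext fun p => ?_
      constructor
      · rintro rfl; exact hU.fromSpec_primeIdealOf ⟨y, hyU⟩
      · intro hp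
        exact hU.fromSpec.isOpenEmbedding.injective (hp.trans (hU.fromSpec_primeIdealOf ⟨y, hyU⟩).symm)
    have hQ0 : Q.asIdeal ≠ ⊥ := fun h0 => hnf (Ring.isField_iff_maximal_bot.mpr (h0 ▸ hQm))
    haveI : IsLocallyNoetherian I.subscheme := LocallyOfFiniteType.isLocallyNoetherian q
    haveI : IsNoetherianRing A := IsLocallyNoetherian.component_noetherian ⟨U, hU⟩
    refine le_antisymm ?_ ?_
    · haveI : Ring.KrullDimLE 1 A :=
        Ring.krullDimLE_one_iff_of_noZeroDivisors.mpr fun J h1 h2 => hmax J h2 h1
      rw [IsLocalization.AtPrime.ringKrullDim_eq_height Q.asIdeal (I.subscheme.presheaf.stalk y)]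
      exact_mod_cast (Ideal.height_le_ringKrullDim_of_ne_top Q.2.ne_top).trans
        (Ring.krullDimLE_iff.mp inferInstance)
    · rw [IsLocalization.AtPrime.ringKrullDim_eq_height Q.asIdeal (I.subscheme.presheaf.stalk y)]
      have h1 : (⊥ : Ideal A).height < Q.asIdeal.height :=
        Ideal.height_strict_mono_of_isPrime (bot_lt_iff_ne_bot.mpr hQ0)
      exact_mod_cast Order.one_le_iff_pos.mpr (lt_of_le_of_lt bot_le h1)
  -- the normalisation
  let N := g₀.normalization
  have hN := fun y => FinIntClosure.stalk_normalization φ g₀ hφg k q hφfin hX y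
  haveI := FinIntClosure.isFinite_fromNormalization φ g₀ hφg k q hφfin
  let inst : N.Over (Spec (CommRingCat.of k)) := ⟨g₀.fromNormalization ≫ q⟩
  refine ⟨N, inst, inferInstance, inferInstanceAs (IsProper (g₀.fromNormalization ≫ q)),
    fun y => (hN y).1, fun y => (hN y).2, ?_⟩
  let t := g₀.toNormalization
  have htη : t (IsLocalRing.closedPoint K) = genericPoint N := by
    refine (IsGenericPoint.eq (genericPoint_spec N) ?_).symm
    have h := t.denseRange.closure_range
    rwa [show Set.range t = {t (IsLocalRing.closedPoint K)} from ?_] at h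
    haveI : Subsingleton (PrimeSpectrum K) := inferInstance
    ext z
    constructor
    · rintro ⟨p, rfl⟩; exact congrArg t (Subsingleton.elim (α := PrimeSpectrum K) p _)
    · rintro rfl; exact ⟨_, rfl⟩
  obtain ⟨ψ, hψr, -, hψU⟩ := exists_functionField_map t htη
  have hψs : Function.Surjective ψ := fun a => by
    have h1 : a ∈ ran g₀ := hφr ▸ hsurj a
    rw [← g₀.toNormalization_fromNormalization] at h1
    exact (hψr ▸ ran_comp_le _ _ h1 : a ∈ ψ.range)
  let e : N.functionField ≃+* K := RingEquiv.ofBijective ψ ⟨ψ.injective, hψs⟩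
  refine ⟨e, fun c => ?_⟩
  change ψ (N.presheaf.germ ⊤ _ trivial _) = _
  rw [hψU ⊤ trivial]
  have := stalkClosedPointTo_toGlobal t (g₀.fromNormalization ≫ q)
    (by rw [← Category.assoc, g₀.toNormalization_fromNormalization]; exact hq) c ⊤ trivial
  refine Eq.trans ?_ this
  rw [TopCat.Presheaf.germ_res_apply]
  rfl

end Groth.Agent.CompleteCurve
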